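import Cfsg.Agent.H805.Two.Pair
import Cfsg.Agent.H492.IMHe
import Cfsg.Agent.H678.DG.HeDegB
import Cfsg.Agent.S2075

/-!
# The Held group: two characters of degree divisible by `p` (helper805)

Degrees 680, 1275 (on 2058 points), 1920 (on 8330 points); a 7-block with defect group of order 7 (`7 × L₃(2)`).
-/

set_option autoImplicit false
set_option maxRecDepth 100000

universe u

namespace Cfsg.Agent.H805.Two.He

open Subgroup Cfsg
open Cfsg.Spor.He (Gen)
open Cfsg.Agent.SporadicB.HePerm (act wd)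
open Cfsg.Agent.FixBN.HeStab Cfsg.Agent.KFacts.He.Lv Cfsg.Agent.CpAutHe.Cnt
open Cfsg.Agent.H492.IMHeCnt Cfsg.Agent.H492.IMHeDat Cfsg.Agent.H492.IMTools
open Cfsg.Agent.H492.IMHe (o1 o2 o4 o7 oy7 oz73 pair arith7 dvd_cent Z73)
open Cfsg.Agent.H651.Two Cfsg.Agent.H596.OneFacts

theorem fp7 : Fact (Nat.Prime 7) := ⟨by norm_num⟩

theorem three_seven : 3 ≤ ND 7 Cfsg.Spor.He := by
  have := fp7
  have hp := pair (p := 7) XB7 YB7 _ o7 oy7 (by decide +kernel) (by decide +kernel)
    (by norm_num) qB7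
  have hle : Nat.card (centralizer ({wd XB7} : Set Cfsg.Spor.He)) ≤ 1176 :=
    Cfsg.Agent.CpAutHe.Bound.card0
  have h3 : 3 ∣ Nat.card (centralizer ({wd XB7} : Set Cfsg.Spor.He)) :=
    dvd_cent (comm_of_chk (by decide +kernel)) oz73
  have h4 : 4 ∣ Nat.card (centralizer ({wd XB7} : Set Cfsg.Spor.He)) :=
    dvd_cent (comm_of_chk (by decide +kernel)) o4
  have h0 : 0 < Nat.card (centralizer ({wd XB7} : Set Cfsg.Spor.He)) := Nat.card_pos
  obtain ⟨m, hm⟩ := hp.1
  have hm' := arith7 hle h3 h4 h0 hm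
  have hm7 : ¬ 7 ∣ m := by rcases hm' with rfl | rfl <;> decide
  refine three_le_of_pair (by norm_num) (x := wd XB7) (y := wd YB7) o7 oy7 (comm_of_chk (by decide +kernel))
    (not_mem_zpowers_of (by norm_num) o7 (by decide +kernel)) hp.2 hm hm7 {1, 2, 3, 4} ?_ ?_
  · intro n hn
    simp only [Finset.mem_insert, Finset.mem_singleton] at hn
    rcases hn with rfl | rfl | rfl | rfl
    exacts [⟨by norm_num, _, comm_of_chk (by decide +kernel), o1⟩,
      ⟨by norm_num, _, comm_of_chk (by decide +kernel), o2⟩,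
      ⟨by norm_num, _, comm_of_chk (by decide +kernel), oz73⟩,
      ⟨by norm_num, _, comm_of_chk (by decide +kernel), o4⟩]
  · rcases hm' with rfl | rfl
    · intro h; exact absurd h (by decide)
    · intro _; decide

theorem two {p : ℕ} (hp : p.Prime) (hd : p ∣ Nat.card Cfsg.Spor.He) : Two p Cfsg.Spor.He := by
  have hc : Nat.card Cfsg.Spor.He = 4030387200 := H678.DG.HeDegA.card_he
  have hfin : Finite Cfsg.Spor.He := Nat.finite_of_card_ne_zero (by rw [hc]; norm_num)
  have h0 := prime_mem hp (L := [(2, 10), (3, 3), (5, 2), (7, 3), (17, 1)]) (by norm_num) (N := 4030387200)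
    (by decide +kernel) (hc ▸ hd)
  simp only [List.map_cons, List.map_nil, List.mem_cons, List.not_mem_nil, or_false] at h0
  rcases h0 with rfl | rfl | rfl | rfl | rfl
  · exact two_of_degs H678.DG.HeDegA.deg_680 H678.DG.HeDegB.deg_1920 (by norm_num) (by norm_num) (by norm_num)
  · exact two_of_degs H678.DG.HeDegA.deg_1275 H678.DG.HeDegB.deg_1920 (by norm_num) (by norm_num) (by norm_num)
  · exact two_of_degs H678.DG.HeDegA.deg_680 H678.DG.HeDegA.deg_1275 (by norm_num) (by norm_num) (by norm_num)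
  · exact two_of_three (Cfsg.Agent.S2075.result).le three_seven
  · exact two_of_degs H678.DG.HeDegA.deg_680 H678.DG.HeDegA.deg_1275 (by norm_num) (by norm_num) (by norm_num)

/-- **The row `He`.** -/
theorem two_he {S : Type u} [Group S] (h : Cfsg.Spor.IsoHe S) {p : ℕ} [hp : Fact p.Prime]
    (hd : p ∣ Nat.card S) : TwoOr p S :=
  twoOr_of h hd (two hp.out)

end Cfsg.Agent.H805.Two.He
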