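import Cfsg.Agent.H651.Two.CountList
import Cfsg.Agent.H314.LyOrb.IMSeven

/-!
# Centralizers `p × 2²` (helper805)

`x` of odd prime order `p`, `t`, `u` two commuting involutions in `C(x)`, `|C(x)| ≤ 4 p`:
* `mem` : the elements of `C(x)` are the `x ^ k * v`, `v ∈ {1, t, u, t u}`;
* `comm` : `C(x)` is commutative;
* `not_isConj` : `x v` and `x w` are not conjugate for `v ≠ w`;
* `numCls_le_two` : if `n` normalizes `⟨x⟩` and permutes the involutions as a 3-cycle: `numCls p ⟨x⟩ ≤ 2`.
-/

set_option autoImplicit false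

open Cfsg

namespace Cfsg.Agent.H805.Two.Klein

open Subgroup Cfsg.Agent.Blocks.Local Cfsg.Agent.H593.IMCyc

universe u

/-- The data. -/
structure Dat {G : Type u} [Group G] (p : ℕ) (x t u : G) : Prop where
  hx : orderOf x = p
  hp2 : ¬ 2 ∣ p
  tt : t * t = 1
  uu : u * u = 1
  tu : t * u = u * t
  tx : t * x = x * t
  ux : u * x = x * u
  t1 : t ≠ 1
  u1 : u ≠ 1
  ne : t ≠ u
  hC : Nat.card (centralizer ({x} : Set G)) ≤ 4 * p

variable {G : Type u} [Group G] {p : ℕ} {x t u : G}

/-- The four elements. -/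
def v (t u : G) : Fin 4 → G := ![1, t, u, t * u]

theorem Dat.v_sq (D : Dat p x t u) (i : Fin 4) : v t u i * v t u i = 1 := by
  fin_cases i
  · exact one_mul 1
  · exact D.tt
  · exact D.uu
  · show t * u * (t * u) = 1
    calc t * u * (t * u) = t * (u * t) * u := by group
      _ = t * (t * u) * u := by rw [D.tu]
      _ = (t * t) * (u * u) := by group
      _ = 1 := by rw [D.tt, D.uu, one_mul]

theorem Dat.v_x (D : Dat p x t u) (i : Fin 4) : v t u i * x = x * v t u i := by
  fin_cases i
  · show 1 * x = x * 1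
    rw [one_mul, mul_one]
  · exact D.tx
  · exact D.ux
  · show t * u * x = x * (t * u)
    rw [mul_assoc, D.ux, ← mul_assoc, D.tx, mul_assoc]

theorem Dat.v_comm (D : Dat p x t u) (i j : Fin 4) : v t u i * v t u j = v t u j * v t u i := by
  have htu : Commute t u := D.tu
  have hc : ∀ i : Fin 4, Commute (v t u i) t ∧ Commute (v t u i) u := by
    intro i
    fin_cases i
    · exact ⟨Commute.one_left _, Commute.one_left _⟩
    · exact ⟨Commute.refl _, htu⟩
    · exact ⟨htu.symm, Commute.refl _⟩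
    · exact ⟨Commute.mul_left (Commute.refl _) htu.symm, Commute.mul_left htu (Commute.refl _)⟩
  fin_cases j
  · exact (Commute.one_right _).eq
  · exact (hc i).1.eq
  · exact (hc i).2.eq
  · exact ((hc i).1.mul_right (hc i).2).eq

theorem Dat.v_inj (D : Dat p x t u) : Function.Injective (v t u) := by
  have h3 : t * u ≠ 1 := fun h => D.ne (by
    have := mul_left_cancel (h.trans D.tt.symm)
    exact this.symm)
  have h4 : t * u ≠ t := fun h => D.u1 (by
    have := mul_left_cancel (h.trans (mul_one t).symm)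
    exact this)
  have h5 : t * u ≠ u := fun h => D.t1 (by
    have := mul_right_cancel (h.trans (one_mul u).symm)
    exact this)
  intro i j hij
  fin_cases i <;> fin_cases j
  · rfl
  · exact absurd hij.symm D.t1
  · exact absurd hij.symm D.u1
  · exact absurd hij.symm h3
  · exact absurd hij D.t1
  · rfl
  · exact absurd hij D.ne
  · exact absurd hij.symm h4
  · exact absurd hij D.u1
  · exact absurd hij.symm D.ne
  · rfl
  · exact absurd hij.symm h5
  · exact absurd hij h3
  · exact absurd hij h4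
  · exact absurd hij h5
  · rfl

theorem Dat.odd (D : Dat p x t u) : ∃ k, p = 2 * k + 1 := ⟨p / 2, by
  have := D.hp2
  omega⟩

theorem Dat.v_pow (D : Dat p x t u) (i : Fin 4) : v t u i ^ p = v t u i := by
  obtain ⟨k, hk⟩ := D.odd
  rw [hk, pow_succ, pow_mul, pow_two, D.v_sq, one_pow, one_mul]

theorem Dat.pow_eq (D : Dat p x t u) (i : Fin 4) (k : ℕ) : (x ^ k * v t u i) ^ p = v t u i := by
  have h : Commute (x ^ k) (v t u i) := (show Commute x (v t u i) from (D.v_x i).symm).pow_left k
  rw [h.mul_pow, D.v_pow, ← pow_mul, mul_comm k p, pow_mul, ← D.hx, pow_orderOf_eq_one, one_pow, one_mul]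

theorem Dat.mem_cent (D : Dat p x t u) (k : ℕ) (i : Fin 4) :
    x ^ k * v t u i ∈ centralizer ({x} : Set G) := by
  rw [mem_centralizer_singleton_iff, mul_assoc, D.v_x, ← mul_assoc, ← mul_assoc, ← pow_succ, ← pow_succ']

/-- **The elements of the centralizer.** -/
theorem Dat.mem [Finite G] (D : Dat p x t u) (hp : 0 < p) {c : G} (hc : c * x = x * c) :
    ∃ k : ℕ, ∃ i : Fin 4, c = x ^ k * v t u i := by
  let f : Fin p × Fin 4 → centralizer ({x} : Set G) := fun a => ⟨x ^ (a.1 : ℕ) * v t u a.2, D.mem_cent _ _⟩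
  have hf : Function.Injective f := by
    rintro ⟨k, i⟩ ⟨l, j⟩ h
    have h1 : x ^ (k : ℕ) * v t u i = x ^ (l : ℕ) * v t u j := congrArg Subtype.val h
    have h2 : v t u i = v t u j := by rw [← D.pow_eq i k, ← D.pow_eq j l, h1]
    have h3 : i = j := D.v_inj h2
    subst h3
    have h4 : x ^ (k : ℕ) = x ^ (l : ℕ) := mul_right_cancel h1
    have h5 := pow_injOn_Iio_orderOf (x := x) (by rw [D.hx]; exact k.2) (by rw [D.hx]; exact l.2) h4
    exact Prod.ext (Fin.ext h5) rfl
  have hb : Function.Bijective f := by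
    refine Function.Injective.bijective_of_nat_card_le hf ?_
    rw [Nat.card_prod, Nat.card_fin, Nat.card_fin]
    exact D.hC.trans (by rw [mul_comm])
  obtain ⟨⟨k, i⟩, h⟩ := hb.2 ⟨c, mem_centralizer_singleton_iff.2 hc⟩
  exact ⟨k, i, (congrArg Subtype.val h).symm⟩

/-- The centralizer is commutative. -/
theorem Dat.comm [Finite G] (D : Dat p x t u) (hp : 0 < p) {c d : G} (hc : c * x = x * c)
    (hd : d * x = x * d) : c * d = d * c := by
  obtain ⟨k, i, rfl⟩ := D.mem hp hc
  obtain ⟨l, j, rfl⟩ := D.mem hp hd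
  have h1 : Commute x (v t u i) := (D.v_x i).symm
  have h2 : Commute x (v t u j) := (D.v_x j).symm
  have h3 : Commute (v t u i) (v t u j) := D.v_comm i j
  have h4 : Commute (x ^ k * v t u i) (x ^ l * v t u j) :=
    Commute.mul_left (Commute.mul_right (Commute.pow_pow (Commute.refl x) k l) (h2.pow_left k))
      (Commute.mul_right (h1.symm.pow_right l) h3)
  exact h4.eq

theorem Dat.card [Finite G] (D : Dat p x t u) : Nat.card (centralizer ({x} : Set G)) = 4 * p := by
  apply le_antisymm D.hC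
  let f : Fin p × Fin 4 → centralizer ({x} : Set G) := fun a => ⟨x ^ (a.1 : ℕ) * v t u a.2, D.mem_cent _ _⟩
  have hf : Function.Injective f := by
    rintro ⟨k, i⟩ ⟨l, j⟩ h
    have h1 : x ^ (k : ℕ) * v t u i = x ^ (l : ℕ) * v t u j := congrArg Subtype.val h
    have h2 : v t u i = v t u j := by rw [← D.pow_eq i k, ← D.pow_eq j l, h1]
    have h3 : i = j := D.v_inj h2
    subst h3
    have h4 : x ^ (k : ℕ) = x ^ (l : ℕ) := mul_right_cancel h1
    have h5 := pow_injOn_Iio_orderOf (x := x) (by rw [D.hx]; exact k.2) (by rw [D.hx]; exact l.2) h4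
    exact Prod.ext (Fin.ext h5) rfl
  have h := Nat.card_le_card_of_injective f hf
  rw [Nat.card_prod, Nat.card_fin, Nat.card_fin, mul_comm] at h
  exact h

/-- The order of `x v`. -/
theorem Dat.order (D : Dat p x t u) (i : Fin 4) (hi : i ≠ 0) : orderOf (x * v t u i) = 2 * p := by
  have h1 : orderOf (v t u i) = 2 := by
    apply orderOf_eq_prime
    · rw [pow_two]; exact D.v_sq i
    · intro h
      exact hi (D.v_inj (a₂ := 0) h)
  have h2 : Commute x (v t u i) := (D.v_x i).symm
  have hc : (orderOf x).Coprime (orderOf (v t u i)) := by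
    rw [D.hx, h1, Nat.coprime_comm]
    exact (Nat.Prime.coprime_iff_not_dvd Nat.prime_two).2 D.hp2
  rw [h2.orderOf_mul_eq_mul_orderOf_of_coprime hc, D.hx, h1, mul_comm]

/-- **`x v` and `x w` are not conjugate.** -/
theorem Dat.not_isConj [Finite G] (D : Dat p x t u) (hp : 0 < p) {i j : Fin 4} (hij : i ≠ j) :
    ¬ IsConj (x * v t u i) (x * v t u j) := by
  intro h
  obtain ⟨g, hg⟩ := isConj_iff.1 h
  have e1 : ∀ i, (x * v t u i) ^ p = v t u i := by
    intro i
    have := D.pow_eq i 1
    rwa [pow_one] at this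
  have h1 : g * v t u i * g⁻¹ = v t u j := by
    rw [← e1 i, ← e1 j, ← hg, conj_pow]
  have h2 : g * x * g⁻¹ = x := by
    have h3 : g * x * g⁻¹ * (g * v t u i * g⁻¹) = x * v t u j := by
      rw [← hg]; group
    rw [h1] at h3
    exact mul_right_cancel h3
  have h3 : g * x = x * g := by
    calc g * x = (g * x * g⁻¹) * g := by group
      _ = x * g := by rw [h2]
  have h4 := D.comm hp h3 (D.v_x i)
  apply hij
  apply D.v_inj
  rw [← h1, h4]
  group

/-- The elements of `C(x)` of order prime to `p`. -/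
theorem Dat.regular [Finite G] (D : Dat p x t u) (hp : p.Prime) {c : G} (hc : c * x = x * c)
    (h : ¬ p ∣ orderOf c) : ∃ i : Fin 4, c = v t u i := by
  obtain ⟨k, i, rfl⟩ := D.mem hp.pos hc
  refine ⟨i, ?_⟩
  have h1 : Commute (x ^ k) (v t u i) := (show Commute x (v t u i) from (D.v_x i).symm).pow_left k
  have h2 : (x ^ k * v t u i) ^ 2 = (x ^ k) ^ 2 := by
    rw [h1.mul_pow, pow_two (v t u i), D.v_sq, mul_one]
  have h3 : ((x ^ k) ^ 2) ^ p = 1 := by
    rw [← pow_mul, ← pow_mul, show k * (2 * p) = p * (k * 2) by ring, pow_mul, ← D.hx, pow_orderOf_eq_one, one_pow]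
  have h4 : orderOf ((x ^ k) ^ 2) ∣ p := orderOf_dvd_of_pow_eq_one h3
  have h5 : orderOf ((x ^ k) ^ 2) ∣ orderOf (x ^ k * v t u i) := by
    rw [← h2]; exact orderOf_pow_dvd 2
  have h6 : (x ^ k) ^ 2 = 1 := by
    rcases (Nat.dvd_prime hp).1 h4 with h6 | h6
    · exact orderOf_eq_one_iff.1 h6
    · exact absurd (h6 ▸ h5) h
  have h7 : orderOf (x ^ k) ∣ 2 := orderOf_dvd_of_pow_eq_one h6
  have h8 : orderOf (x ^ k) ∣ p := by rw [← D.hx]; exact orderOf_pow_dvd k
  have h9 : orderOf (x ^ k) = 1 := by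
    rcases (Nat.dvd_prime Nat.prime_two).1 h7 with h9 | h9
    · exact h9
    · exact absurd (h9 ▸ h8) D.hp2
  rw [orderOf_eq_one_iff.1 h9, one_mul]

/-- **At most two classes.** -/
theorem Dat.numCls_le_two [Finite G] (D : Dat p x t u) (hp : p.Prime) {n : G} {r : ℕ}
    (hn : n * x = x ^ r * n) (h1 : n * t = u * n) (h2 : n * u = t * u * n) :
    numCls p (zpowers x) ≤ 2 := by
  have hN : n ∈ normalizer ((zpowers x : Subgroup G) : Set G) := by
    have hle : map (MulAut.conj n).toMonoidHom (zpowers x) ≤ zpowers x := by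
      rw [MonoidHom.map_zpowers, zpowers_le]
      refine ⟨(r : ℤ), ?_⟩
      show x ^ (r : ℤ) = n * x * n⁻¹
      rw [hn, zpow_natCast]
      group
    have heq : map (MulAut.conj n).toMonoidHom (zpowers x) = zpowers x :=
      Subgroup.eq_of_le_of_card_ge hle (Subgroup.card_map_of_injective (MulAut.conj n).injective).ge
    rw [mem_normalizer_iff]
    intro y
    constructor
    · intro hy
      have : (MulAut.conj n).toMonoidHom y ∈ map (MulAut.conj n).toMonoidHom (zpowers x) := ⟨y, hy, rfl⟩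
      rw [heq] at this
      exact this
    · intro hy
      have h3 : n * y * n⁻¹ ∈ map (MulAut.conj n).toMonoidHom (zpowers x) := by rw [heq]; exact hy
      obtain ⟨z, hz, hz'⟩ := h3
      have h4 : z = y := (MulAut.conj n).injective hz'
      rw [← h4]
      exact hz
  refine (Cfsg.Agent.H314.LyOrb.IMSeven.numCls_le_norm p (zpowers x) (![1, t] : Fin 2 → G) ?_).trans
    (by rw [Fintype.card_fin])
  intro c hc h
  have hc' : c * x = x * c := by
    have := mem_centralizer_iff.1 hc x (mem_zpowers x)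
    exact this.symm
  obtain ⟨i, rfl⟩ := D.regular hp hc' h
  fin_cases i
  · exact ⟨0, 1, one_mem _, by show (1 : G) * 1 * 1⁻¹ = 1; group⟩
  · exact ⟨1, 1, one_mem _, by show (1 : G) * t * 1⁻¹ = t; group⟩
  · exact ⟨1, n, hN, by show n * t * n⁻¹ = u; rw [h1]; group⟩
  · refine ⟨1, n * n, mul_mem hN hN, ?_⟩
    show n * n * t * (n * n)⁻¹ = t * u
    rw [mul_assoc n n t, h1, ← mul_assoc, h2]
    group

end Cfsg.Agent.H805.Two.Klein
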