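import Cfsg.Agent.H805.Two.RuCert
import Cfsg.Agent.H805.Two.Klein
import Cfsg.Agent.H436.TwoRu
import Cfsg.Agent.H148.Ru.CentSeven
import Cfsg.Agent.H713.Two.Ru
import Cfsg.Agent.H870.IMRu
import Cfsg.Agent.H153.ZerosRu

/-!
# The Rudvalis group: two characters of degree divisible by `p` (helper805)

* 2: linear programming; 3: degrees 783, 3276; 5: the centralizer `5 × A₅`;
* 7, 13, 29: the number of `p`-regular classes is larger than in the blocks with cyclic defect group.
-/

set_option autoImplicit false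
set_option maxRecDepth 100000

universe u

namespace Cfsg.Agent.H805.Two.Ru

open Subgroup Cfsg
open Cfsg.Agent.SporadicB Cfsg.Agent.RuD.Letters Cfsg.Agent.SporRec.TCUpperCert
open Cfsg.Agent.KFacts.Ru Cfsg.Agent.KFacts.Ru.CentEng Cfsg.Agent.CpAutRuFive
open Cfsg.Agent.H651.Two Cfsg.Agent.H596.OneFacts Cfsg.Agent.H653.Sieve Cfsg.Agent.Characters.Core
open Cfsg.Agent.H805.Two.Klein

/-! ### Words -/

/-- the involutions in the centralizer of `f` -/
def wt : List ℕ := [0]
def wu : List ℕ := [4, 0, 8]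
def wn : List ℕ := [2, 1, 1, 7, 1, 7, 4]

theorem evalK_ne {w : List ℕ} {b : ℕ} (hb : b < 4060) (h : Nat.beq (evalK w b) b = false) :
    (wprod ml w : RuOrder.H) ≠ 1 := by
  intro h1
  have h2 := evalK_eq w ⟨b, hb⟩
  rw [h1] at h2
  have h3 : evalK w b = b := h2.symm
  rw [h3, Nat.beq_refl] at h
  exact absurd h (by decide)

theorem k_tt : chkEq [0, 0] [] = true := by decide +kernel
theorem k_uu : chkEq [4, 0, 8, 4, 0, 8] [] = true := by decide +kernel
theorem k_tu : chkEq [0, 4, 0, 8] [4, 0, 8, 0] = true := by decide +kernel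
theorem k_t1 : Nat.beq (evalK [0] 0) 0 = false := by decide +kernel
theorem k_u1 : Nat.beq (evalK [4, 0, 8] 0) 0 = false := by decide +kernel
theorem k_tu1 : Nat.beq (evalK [0, 4, 0, 8] 0) 0 = false := by decide +kernel
theorem k_t7 : chkEq [0, 3] [3, 0] = true := by decide +kernel
theorem k_u7 : chkEq [4, 0, 8, 3] [3, 4, 0, 8] = true := by decide +kernel
theorem k_t13 : chkEq [0, 1, 2, 7] [1, 2, 7, 0] = true := by decide +kernel
theorem k_u13 : chkEq [4, 0, 8, 1, 2, 7] [1, 2, 7, 4, 0, 8] = true := by decide +kernel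
theorem k_n7 : chkEq [4, 3] [3, 3, 4] = true := by decide +kernel
theorem k_nt : chkEq [4, 0] [4, 0, 8, 4] = true := by decide +kernel
theorem k_nu : chkEq [4, 4, 0, 8] [0, 4, 0, 8, 4] = true := by decide +kernel
theorem k_m13 : chkEq [2, 1, 1, 7, 1, 7, 4, 1, 2, 7] [1, 2, 7, 1, 2, 7, 1, 2, 7, 2, 1, 1, 7, 1, 7, 4] = true := by
  decide +kernel
theorem k_mt : chkEq [2, 1, 1, 7, 1, 7, 4, 0] [4, 0, 8, 2, 1, 1, 7, 1, 7, 4] = true := by decide +kernel
theorem k_mu : chkEq [2, 1, 1, 7, 1, 7, 4, 4, 0, 8] [0, 4, 0, 8, 2, 1, 1, 7, 1, 7, 4] = true := by decide +kernel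

theorem rel2 {a b c d : List ℕ} (h : chkEq (a ++ b) (c ++ d) = true) :
    (wprod ml a : RuOrder.H) * wprod ml b = wprod ml c * wprod ml d := by
  have := eq_of_chkEq h
  rwa [wprod_append, wprod_append] at this

theorem ne_tu : (wprod ml wt : RuOrder.H) ≠ wprod ml wu := by
  intro h
  apply evalK_ne (b := 0) (by norm_num) k_tu1
  have h1 : (wprod ml [0, 4, 0, 8] : RuOrder.H) = wprod ml wt * wprod ml wu := wprod_append _ wt wu
  rw [h1, ← h]
  exact (wprod_append _ wt wt).symm.trans (eq_of_chkEq k_tt)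

theorem dat7 : Dat 7 (wprod ml H148.Ru.wC : RuOrder.H) (wprod ml wt) (wprod ml wu) where
  hx := H148.Ru.orderC
  hp2 := by norm_num
  tt := (wprod_append _ wt wt).symm.trans (eq_of_chkEq k_tt)
  uu := (wprod_append _ wu wu).symm.trans (eq_of_chkEq k_uu)
  tu := rel2 k_tu
  tx := rel2 k_t7
  ux := rel2 k_u7
  t1 := evalK_ne (by norm_num) k_t1
  u1 := evalK_ne (by norm_num) k_u1
  ne := ne_tu
  hC := by
    rw [H436.TwoRu.cen_eq]
    exact H148.Ru.card_C

theorem dat13 : Dat 13 (wprod ml H436.RuCent.wB : RuOrder.H) (wprod ml wt) (wprod ml wu) where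
  hx := H436.RuCent.orderB
  hp2 := by norm_num
  tt := (wprod_append _ wt wt).symm.trans (eq_of_chkEq k_tt)
  uu := (wprod_append _ wu wu).symm.trans (eq_of_chkEq k_uu)
  tu := rel2 k_tu
  tx := rel2 k_t13
  ux := rel2 k_u13
  t1 := evalK_ne (by norm_num) k_t1
  u1 := evalK_ne (by norm_num) k_u1
  ne := ne_tu
  hC := by
    rw [H436.TwoRu.cen_eq]
    exact H436.RuCent.card_B

theorem num7 : Cfsg.Agent.H593.IMCyc.numCls 7 (zpowers (wprod ml H148.Ru.wC : RuOrder.H)) ≤ 2 := by
  have := H436.TwoRu.finite_H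
  refine dat7.numCls_le_two (by norm_num) (n := wprod ml [4]) (r := 2) ?_ (rel2 k_nt) ?_
  · have h := rel2 (a := [4]) (b := [3]) (c := [3, 3]) (d := [4]) k_n7
    rw [show (wprod ml [3, 3] : RuOrder.H) = wprod ml [3] * wprod ml [3] from wprod_append _ [3] [3], ← pow_two] at h
    exact h
  · have h := rel2 (a := [4]) (b := wu) (c := [0, 4, 0, 8]) (d := [4]) k_nu
    rw [show (wprod ml [0, 4, 0, 8] : RuOrder.H) = wprod ml wt * wprod ml wu from wprod_append _ wt wu] at h
    exact h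

theorem num13 : Cfsg.Agent.H593.IMCyc.numCls 13 (zpowers (wprod ml H436.RuCent.wB : RuOrder.H)) ≤ 2 := by
  have := H436.TwoRu.finite_H
  refine dat13.numCls_le_two (by norm_num) (n := wprod ml wn) (r := 3) ?_ (rel2 k_mt) ?_
  · have h := rel2 (a := wn) (b := [1, 2, 7]) (c := [1, 2, 7, 1, 2, 7, 1, 2, 7]) (d := wn) k_m13
    rw [show (wprod ml [1, 2, 7, 1, 2, 7, 1, 2, 7] : RuOrder.H) = wprod ml [1, 2, 7] ^ 3 by
      rw [pow_succ, pow_two, ← wprod_append, ← wprod_append]; rfl] at h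
    exact h
  · have h := rel2 (a := wn) (b := wu) (c := [0, 4, 0, 8]) (d := wn) k_mu
    rw [show (wprod ml [0, 4, 0, 8] : RuOrder.H) = wprod ml wt * wprod ml wu from wprod_append _ wt wu] at h
    exact h

/-! ### The classes -/

/-- the representatives of order `n` -/
noncomputable def dn (n : ℕ) : List (List ℕ × ℕ × ℕ × List ℕ) :=
  H153.Zeros.RuCls.data.filter fun d => Nat.beq d.2.1 n

noncomputable def ln (n : ℕ) : List RuOrder.H := (dn n).map fun d => wprod ml d.1

theorem ln_order (n : ℕ) : ∀ g ∈ ln n, orderOf g = n := by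
  intro g hg
  obtain ⟨d, hd, rfl⟩ := List.mem_map.1 hg
  obtain ⟨h1, h2⟩ := List.mem_filter.1 hd
  have h3 := List.all_eq_true.1 H153.Zeros.RuCls.data_chk d h1
  have h4 := (H153.Zeros.RuCls.hasOrd_of_chk (H153.Zeros.RuCls.data_primes d h1) h3).1
  exact h4.trans (Nat.eq_of_beq_eq_true h2)

theorem ln_pairwise (n : ℕ) : (ln n).Pairwise fun a b => ¬ IsConj a b := by
  rw [ln, List.pairwise_map]
  have h1 := H153.Zeros.RuCls.data_nodup
  rw [List.Nodup, List.pairwise_map] at h1
  have h2 := List.all_eq_true.1 H153.Zeros.RuCls.data_chk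
  have h0 : (dn n).Pairwise fun a b => (a.2.1, a.2.2.1) ≠ (b.2.1, b.2.2.1) :=
    List.Pairwise.sublist List.filter_sublist h1
  refine List.Pairwise.imp_of_mem ?_ h0
  intro a b ha hb hab hc
  have ha := (List.mem_filter.1 ha).1
  have hb := (List.mem_filter.1 hb).1
  apply hab
  obtain ⟨e1, e2⟩ := H153.Zeros.RuCls.hasOrd_of_chk (H153.Zeros.RuCls.data_primes a ha) (h2 a ha)
  obtain ⟨f1, f2⟩ := H153.Zeros.RuCls.hasOrd_of_chk (H153.Zeros.RuCls.data_primes b hb) (h2 b hb)
  have h3 := H153.Zeros.RuCls.fxn_conj hc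
  rw [e2, f2] at h3
  have h4 : orderOf (wprod ml a.1 : RuOrder.H) = orderOf (wprod ml b.1 : RuOrder.H) := by
    rw [ln_order n _ (List.mem_map.2 ⟨a, ?_, rfl⟩), ln_order n _ (List.mem_map.2 ⟨b, ?_, rfl⟩)]
    all_goals assumption
  rw [e1, f1] at h4
  exact Prod.ext h4 h3

/-- elements of order 29 -/
theorem self29 {x : RuOrder.H} (hx : orderOf x = 29) : Nat.card (centralizer ({x} : Set RuOrder.H)) = 29 := by
  have := H436.TwoRu.finite_H
  apply Nat.dvd_antisymm
  · exact (H436.TwoRu.cent29 x hx).trans (by norm_num)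
  · have h3 : x ∈ centralizer ({x} : Set RuOrder.H) := mem_centralizer_singleton_iff.2 rfl
    have := Subgroup.orderOf_dvd_natCard _ h3
    rwa [hx] at this

theorem fact29 : (145926144000 : ℕ).factorization 29 = 1 := by
  rw [show (145926144000 : ℕ) = 29 ^ 1 * 5031936000 by norm_num,
    H713.Two.Ru.factorization_of (by norm_num) (by norm_num)]

theorem fact13 : (145926144000 : ℕ).factorization 13 = 1 := by
  rw [show (145926144000 : ℕ) = 13 ^ 1 * 11225088000 by norm_num,
    H713.Two.Ru.factorization_of (by norm_num) (by norm_num)]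

theorem fact7 : (145926144000 : ℕ).factorization 7 = 1 := by
  rw [show (145926144000 : ℕ) = 7 ^ 1 * 20846592000 by norm_num,
    H713.Two.Ru.factorization_of (by norm_num) (by norm_num)]

theorem fus29 : have := (⟨by norm_num⟩ : Fact (Nat.Prime 29))
    ∀ x : RuOrder.H, orderOf x = 29 → (H713.Count.fus (p := 29) x).card = 14 := by
  intro _ x hx
  have := H436.TwoRu.finite_H
  exact H713.Two.Sing.card_fus_eq (by rw [H436.TwoRu.card_H]; exact fact29) hx (self29 hx)
    (by rw [H436.TwoRu.card_H])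

/-- the general family -/
theorem fam {S : Finset ℕ} {P : ℕ → Prop} (h : ∀ n ∈ S, P n) :
    ∀ n ∈ S, P n ∧ ∃ l : List RuOrder.H, l.length = (dn n).length ∧
      (∀ g ∈ l, orderOf g = n) ∧ l.Pairwise fun a b => ¬ IsConj a b :=
  fun n hn => ⟨h n hn, ln n, by rw [ln, List.length_map], ln_order n, ln_pairwise n⟩

theorem three29 : 3 ≤ ND 29 RuOrder.H := by
  have := H436.TwoRu.finite_H
  have : Fact (Nat.Prime 29) := ⟨by norm_num⟩
  have h := self_le (G := RuOrder.H) (p := 29) (by rw [H436.TwoRu.card_H]; exact fact29) H436.RuCent.orderA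
    (self29 H436.RuCent.orderA) (fus29 _ H436.RuCent.orderA).le
    {1, 2, 3, 4, 5, 6, 7, 8, 10, 12, 13, 14, 15, 16, 20, 24, 26} (fun n => (dn n).length)
    (fam (by decide))
  have h2 : (∑ n ∈ ({1, 2, 3, 4, 5, 6, 7, 8, 10, 12, 13, 14, 15, 16, 20, 24, 26} : Finset ℕ), (dn n).length) = 25 := by
    decide +kernel
  omega

theorem three7 : 3 ≤ ND 7 RuOrder.H := by
  have := H436.TwoRu.finite_H
  have : Fact (Nat.Prime 7) := ⟨by norm_num⟩
  have h := regular_le_lists (G := RuOrder.H) (p := 7) (by rw [H436.TwoRu.card_H]; exact fact7) H148.Ru.orderC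
    (fus_le H148.Ru.orderC) num7
    {1, 2, 3, 4, 5, 6, 8, 10, 12, 13, 15, 16, 20, 24, 26, 29} (fun n => (dn n).length)
    (fam (by decide))
  have h2 : (∑ n ∈ ({1, 2, 3, 4, 5, 6, 8, 10, 12, 13, 15, 16, 20, 24, 26, 29} : Finset ℕ), (dn n).length) = 24 := by
    decide +kernel
  omega

/-- the numbers of classes of order `n` for `p = 13` -/
def f13 (n : ℕ) : ℕ := if n = 29 then 2 else if n = 14 then 3 else
  (H153.Zeros.RuCls.data.filter fun d => Nat.beq d.2.1 n).length

theorem fam13 {S : Finset ℕ} {P : ℕ → Prop} (h : ∀ n ∈ S, P n) :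
    ∀ n ∈ S, P n ∧ ∃ l : List RuOrder.H, l.length = f13 n ∧
      (∀ g ∈ l, orderOf g = n) ∧ l.Pairwise fun a b => ¬ IsConj a b := by
  have := H436.TwoRu.finite_H
  intro n hn
  refine ⟨h n hn, ?_⟩
  by_cases h29 : n = 29
  · subst h29
    have : Fact (Nat.Prime 29) := ⟨by norm_num⟩
    exact exists_powers H436.RuCent.orderA (fus29 _ H436.RuCent.orderA).le (k := 2) (by norm_num) (by norm_num)
  by_cases h14 : n = 14
  · subst h14
    refine ⟨[wprod ml H148.Ru.wC * v (wprod ml wt) (wprod ml wu) 1,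
      wprod ml H148.Ru.wC * v (wprod ml wt) (wprod ml wu) 2,
      wprod ml H148.Ru.wC * v (wprod ml wt) (wprod ml wu) 3], rfl, ?_, ?_⟩
    · intro g hg
      simp only [List.mem_cons, List.not_mem_nil, or_false] at hg
      rcases hg with rfl | rfl | rfl
      · exact dat7.order 1 (by decide)
      · exact dat7.order 2 (by decide)
      · exact dat7.order 3 (by decide)
    · refine List.Pairwise.cons ?_ (List.Pairwise.cons ?_ (List.pairwise_singleton _ _))
      · intro g hg
        simp only [List.mem_cons, List.not_mem_nil, or_false] at hg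
        rcases hg with rfl | rfl
        · exact dat7.not_isConj (by norm_num) (by decide)
        · exact dat7.not_isConj (by norm_num) (by decide)
      · intro g hg
        simp only [List.mem_cons, List.not_mem_nil, or_false] at hg
        rcases hg with rfl
        exact dat7.not_isConj (by norm_num) (by decide)
  · refine ⟨ln n, ?_, ln_order n, ln_pairwise n⟩
    rw [ln, List.length_map, f13, if_neg h29, if_neg h14]
    rfl

theorem three13 : 3 ≤ ND 13 RuOrder.H := by
  have := H436.TwoRu.finite_H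
  have : Fact (Nat.Prime 13) := ⟨by norm_num⟩
  have h := regular_le_lists (G := RuOrder.H) (p := 13) (by rw [H436.TwoRu.card_H]; exact fact13) H436.RuCent.orderB
    (fus_le H436.RuCent.orderB) num13
    {1, 2, 3, 4, 5, 6, 7, 8, 10, 12, 14, 15, 16, 20, 24, 29} f13
    (fam13 (by decide))
  have h2 : (∑ n ∈ ({1, 2, 3, 4, 5, 6, 7, 8, 10, 12, 14, 15, 16, 20, 24, 29} : Finset ℕ), f13 n) = 27 := by
    decide +kernel
  omega

open Cfsg.Agent.CpAutRuFive.Cert Cfsg.Agent.H870.IMRu in
theorem three5 : 3 ≤ ND 5 RuOrder.H := by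
  have := H436.TwoRu.finite_H
  have : Fact (Nat.Prime 5) := ⟨by norm_num⟩
  have hr := rel_of_chk chkY
  have hY : wprod ml [5, 5] = (1 : RuOrder.H) := hr _ (by simp)
  have hB : wprod ml [0, 4, 0, 4, 0, 4] = (1 : RuOrder.H) := hr _ (by simp)
  have hYB : wprod ml [5, 0, 4, 5, 0, 4, 5, 0, 4, 5, 0, 4, 5, 0, 4] = (1 : RuOrder.H) := hr _ (by simp)
  have e1 : wprod ml [5, 5] = (wprod ml [5] : RuOrder.H) ^ 2 := by
    rw [show ([5, 5] : List ℕ) = [5] ++ [5] from rfl, wprod_append, pow_two]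
  have e2 : wprod ml [0, 4, 0, 4, 0, 4] = (wprod ml [0, 4] : RuOrder.H) ^ 3 := by
    rw [show ([0, 4, 0, 4, 0, 4] : List ℕ) = [0, 4] ++ ([0, 4] ++ [0, 4]) from rfl, wprod_append, wprod_append]
    simp only [pow_succ, pow_zero, one_mul, mul_assoc]
  have e3 : wprod ml [5, 0, 4, 5, 0, 4, 5, 0, 4, 5, 0, 4, 5, 0, 4] =
      ((wprod ml [5] : RuOrder.H) * wprod ml [0, 4]) ^ 5 := by
    rw [show ([5, 0, 4, 5, 0, 4, 5, 0, 4, 5, 0, 4, 5, 0, 4] : List ℕ) =
      ([5] ++ [0, 4]) ++ (([5] ++ [0, 4]) ++ (([5] ++ [0, 4]) ++ (([5] ++ [0, 4]) ++ ([5] ++ [0, 4])))) from rfl]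
    simp only [wprod_append]
    simp only [pow_succ, pow_zero, one_mul, mul_assoc]
  have hca := eq_of_chkEq chkCa
  have hcb := eq_of_chkEq chkCb
  rw [wprod_append, wprod_append] at hca hcb
  obtain ⟨h1, h2⟩ := im_cent_five (x := (wprod ml wB : RuOrder.H)) orderB cardB hca hcb (e1.symm.trans hY)
    (e2.symm.trans hB) (e3.symm.trans hYB) ne_one
  exact three_le_of_cent orderB (by norm_num) h1 h2 (by rw [H436.TwoRu.card_H]; norm_num)

/-! ### `p = 2` -/

theorem has : have := H436.TwoRu.finite_H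
    ∀ d ∈ cd, d.Has RuOrder.H := by
  intro _ d hd
  simp only [cd, List.mem_cons, List.not_mem_nil, or_false] at hd
  rcases hd with rfl | rfl | rfl
  · exact has_of (by norm_num) H436.RuCent.orderA (self29 H436.RuCent.orderA)
  · exact has_of (by norm_num) H436.RuCent.orderB dat13.card
  · exact has_of (by norm_num) H148.Ru.orderC dat7.card

theorem pos_of {a : ℕ} (h : ∃ χ : IrrCharacter RuOrder.H, charDegree (χ : RuOrder.H → ℂ) = a) :
    1 ≤ Nat.card {χ : IrrCharacter RuOrder.H // Nat.beq (charDegree (χ : RuOrder.H → ℂ)) a = true} := by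
  have := H436.TwoRu.finite_H
  have hfin : Finite (IrrCharacter RuOrder.H) := Cfsg.Agent.Characters.Core.finite_irr
  obtain ⟨χ, hχ⟩ := h
  have : Nonempty {χ : IrrCharacter RuOrder.H // Nat.beq (charDegree (χ : RuOrder.H → ℂ)) a = true} :=
    ⟨⟨χ, by rw [hχ]; exact Nat.beq_refl a⟩⟩
  exact Nat.card_pos

theorem twoTwo : Two 2 RuOrder.H := by
  have := H436.TwoRu.finite_H
  have hs : IsSimpleGroup RuOrder.H := Cfsg.Agent.SporadicB.RuSimple.isSimpleGroup_H
  obtain ⟨χ, ψ, hχ, hψ⟩ := H713.Two.Ru.exists_783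
  refine two_2 ?_ H436.TwoRu.card_H H713.Two.Ru.card_out.le has ?_ ?_
  · intro hcm
    have h1 : centralizer ({(wprod ml H436.RuCent.wA : RuOrder.H)} : Set RuOrder.H) = ⊤ := by
      rw [eq_top_iff]
      intro z _
      rw [mem_centralizer_singleton_iff]
      exact hcm.is_comm.comm z _
    have h2 := self29 H436.RuCent.orderA
    rw [h1, card_top, H436.TwoRu.card_H] at h2
    exact absurd h2 (by norm_num)
  · intro P hP
    simp only [pr, List.mem_cons, List.not_mem_nil, or_false] at hP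
    rcases hP with rfl | rfl
    · exact pos_of ⟨χ, hχ⟩
    · exact pos_of ⟨ψ, hψ⟩
  · intro P hP
    simp only [kn2, List.mem_cons, List.not_mem_nil, or_false] at hP
    subst hP
    exact ⟨ψ, by show 2 ∣ charDegree (ψ : RuOrder.H → ℂ); rw [hψ]; norm_num, by rw [hψ]; rfl⟩

theorem two {p : ℕ} (hp : p.Prime) (hd : p ∣ Nat.card RuOrder.H) : Two p RuOrder.H := by
  have := H436.TwoRu.finite_H
  have h0 := prime_mem hp facs_prime facs_prod (H436.TwoRu.card_H ▸ hd)
  obtain ⟨χ, ψ, hχ, hψ⟩ := H713.Two.Ru.exists_783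
  have ho : Nat.card (Out RuOrder.H) ≤ 2 := by rw [H713.Two.Ru.card_out]; norm_num
  simp only [facs, List.map_cons, List.map_nil, List.mem_cons, List.not_mem_nil, or_false] at h0
  rcases h0 with rfl | rfl | rfl | rfl | rfl | rfl
  · exact two_of_three ho three29
  · exact two_of_three ho three13
  · exact two_of_three ho three7
  · exact two_of_three ho three5
  · exact two_of_degs ⟨χ, hχ⟩ ⟨ψ, hψ⟩ (by norm_num) (by norm_num) (by norm_num)
  · exact twoTwo

/-- **The row `Ru`.** -/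
theorem two_ru {S : Type u} [Group S] (h : Cfsg.Spor.IsoRu S) {p : ℕ} [hp : Fact p.Prime]
    (hd : p ∣ Nat.card S) : TwoOr p S := by
  obtain ⟨e⟩ := h
  exact twoOr_of ⟨e.trans Cfsg.Agent.RuLat.Main.equiv⟩ hd (two hp.out)

end Cfsg.Agent.H805.Two.Ru
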