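import Cfsg.Agent.H651.Two.Row

/-!
# `Ru`: the linear programming certificate for `p = 2` (generated with the tools of helper651)
-/

set_option autoImplicit false
set_option maxRecDepth 100000

open Cfsg Subgroup

namespace Cfsg.Agent.H805.Two.Ru

open Cfsg.Agent.H653.Sieve Cfsg.Agent.Characters.Core Cfsg.Agent.H596.OneFacts Cfsg.Agent.H651.Two

universe u

variable {G : Type u} [Group G] [Finite G] [IsSimpleGroup G]

/-- The columns. -/
def cd : List CD :=
  [⟨29, 1, 14, 2, [(0, 0), (1, 2), (14, -1), (15, 1), (28, -2)], 2, true⟩,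
    ⟨13, 4, 12, 1, [(0, 0), (1, 1), (2, 2), (3, 3), (10, -3), (11, -2), (12, -1)], 0, false⟩,
    ⟨7, 4, 6, 1, [(0, 0), (1, 1), (2, 2), (3, 3), (4, -3), (5, -2), (6, -1)], 0, false⟩]

def pr : List ((ℕ → Bool) × ℕ) := [(fun d => Nat.beq d 783, 1), (fun d => Nat.beq d 3276, 1)]

theorem ok : (cd.all (CD.ok 145926144000)) = true := by decide +kernel

theorem nd : (cd.map CD.r).Nodup := by decide

def facs : List (ℕ × ℕ) := [(29, 1), (13, 1), (7, 1), (5, 3), (3, 3), (2, 14)]

theorem facs_prime : (facs.all fun pa => Nat.Prime pa.1) = true := by norm_num [facs]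

theorem facs_prod : facProd facs = 145926144000 := by decide +kernel

/-! ### `p = 2` -/

def c2 : List Cert :=
  [⟨0, [⟨10, -5506, 10000, [145, -4932]⟩, ⟨0, 0, 0, [0]⟩, ⟨0, 0, 0, []⟩], [0, 6466], -274236⟩]

theorem h1_2 : (c2.all (headOK 145926144000 (cd.map CD.par) pr)) = true := by decide +kernel

def kn2 : List (ℕ → Bool) := [fun d => Nat.beq d 3276]

theorem h2_2 : allDiv 145926144000 (scenD 145926144000 2 1 (cd.map CD.par) pr kn2
    (cd.map CD.t) (fun _ _ _ => true) c2) facs 1 = true := by decide +kernel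

theorem two_2 (hG : ¬ IsMulCommutative G) (hN : Nat.card G = 145926144000) (hM : Nat.card (Out G) ≤ 1)
    (hx : ∀ d ∈ cd, d.Has G) (hpr : ∀ Pc ∈ pr, Pc.2 ≤ Nat.card {χ : IrrCharacter G // Pc.1 (charDegree (χ : G → ℂ)) = true}) (hkn : ∀ P ∈ kn2, ∃ χ ∈ PD 2 G, P (charDegree (χ : G → ℂ)) = true) : Two 2 G := by
  have : Fact (Nat.Prime 2) := ⟨by norm_num⟩
  exact two_of_data hG 145926144000 1 hN hM facs facs_prime facs_prod cd ok nd hx pr
    hpr kn2 hkn c2 h1_2 (by decide) h2_2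


end Cfsg.Agent.H805.Two.Ru
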